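import Cfsg.Agent.ConwayType59.Setup
import Cfsg.Agent.ConwayType59.Finite
import Cfsg.Agent.LargeExtraspecial.Structure

/-!
The two conjugate involutions `z` and `s`, the element interchanging them and the intersection of
their extraspecial subgroups with the centralizer.
-/

set_option autoImplicit false
set_option synthInstance.maxSize 2000
set_option linter.unusedSectionVars false
set_option linter.unusedVariables false

namespace CfsgLib.ConwayType59

open Cfsg

variable {G : Type*} [Group G] [Finite G]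

theorem exists_nonperp_six : ∀ a : V6, a ≠ 0 → ∃ b : V6, bW a b = 1 := by decide +kernel

theorem exists_singular_pair : ∀ a : V6, qW a = 0 → a ≠ 0 → ∃ b : V6, qW b = 0 ∧ bW b a = 1 := by
  decide +kernel

theorem exists_nonperp (v : V) (hv : v ≠ 0) : ∃ y : V, B v y = 1 := by
  rcases zmod_cases (v (.inr 0)) with h | h
  · rcases zmod_cases (v (.inl 0)) with h' | h'
    · have hp : pj v ≠ 0 := fun e => hv (by rw [decomp v, h, h', e, inj_zero]; simp)
      obtain ⟨b, hb⟩ := exists_nonperp_six _ hp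
      exact ⟨inj b, by rw [B_comm, B_inj_left, bW_comm]; exact hb⟩
    · exact ⟨e1, by rw [B_e1, h']⟩
  · exact ⟨e0, by rw [B_e0, h]⟩

theorem app_rf_fix (a : V) (ha : q a = 1) (x : V) (hx : B x a = 0) : app (rf a ha) x = x := by
  rw [app_rf, hx, zero_smul, add_zero]

theorem app_rf_swap (a b : V) (h : q (a + b) = 1) (hab : B a b = 1) :
    app (rf (a + b) h) a = b := by
  rw [app_rf, B_add_right, B_self, zero_add, hab, one_smul, ← add_assoc, vadd_self, zero_add]

theorem q_add_of_eq {a b : V} (hq : q a = q b) (h : B a b = 1) : q (a + b) = 1 := by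
  rw [q_add, hq, h, zmod_add_self, zero_add]

/-- Moving a singular vector to `e0`. -/
theorem exists_move_one {v : V} (hs : q v = 0) (h0 : v ≠ 0) :
    ∃ f ∈ Omega (ZMod 2) Q8, app f v = e0 := by
  by_cases hB : B v e0 = 1
  · have h := q_add_of_eq (hs.trans q_e0.symm) hB
    refine ⟨rf (inj a0) ((q_inj a0).trans (by decide)) * rf (v + e0) h, rf_mul_rf _ _ _ _, ?_⟩
    rw [app_mul, app_rf_swap _ _ h hB, app_rf_fix _ _ _ (by rw [B_comm, B_inj_e0])]
  have hB' : B v e0 = 0 := (zmod_cases _).resolve_right hB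
  by_cases he : v = e0
  · exact ⟨1, one_mem _, by rw [app_one, he]⟩
  have hr : v (.inr 0) = 0 := by rw [← B_e0 v, hB']
  have hp : pj v ≠ 0 := fun e => by
    have hd := decomp v
    rw [hr, e, inj_zero, zero_smul, add_zero, add_zero] at hd
    rcases zmod_cases (v (.inl 0)) with h | h <;> rw [h] at hd
    · exact h0 (by rw [hd, zero_smul])
    · exact he (by rw [hd, one_smul])
  obtain ⟨b, hb⟩ : ∃ b, bW b (pj v) = v (.inl 0) + 1 := by
    rcases zmod_cases (v (.inl 0)) with h | h <;> rw [h]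
    · obtain ⟨b, hb⟩ := exists_nonperp_six _ hp
      exact ⟨b, by rw [bW_comm, hb, zero_add]⟩
    · exact ⟨0, by rw [bW_zero_left]; decide⟩
  set c := qW b • e0 + e1 + inj b with hc
  have hc0 : B c e0 = 1 := by
    simp [hc, B_add_left, B_smul_left, B_self, B_e1_e0, B_inj_e0]
  have hcq : q c = 0 := by
    simp only [hc, q_add, B_add_left, B_smul_left, B_comm e0 (inj b), B_comm e1 (inj b), B_e0_e1,
      B_inj_e0, B_inj_e1, q_inj, q_e1, mul_one, mul_zero, add_zero]
    rcases zmod_cases (qW b) with e | e <;> simp [e, q_zero, q_e0] <;> rfl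
  have hcv : B v c = 1 := by
    simp [hc, B_add_right, B_smul_right, hB', B_e1, B_comm v (inj b), B_inj_left, hb,
      ← add_assoc, zmod_add_self]
  have h1 := q_add_of_eq (hs.trans hcq.symm) hcv
  have h2 := q_add_of_eq (hcq.trans q_e0.symm) hc0
  refine ⟨rf (c + e0) h2 * rf (v + c) h1, rf_mul_rf _ _ _ _, ?_⟩
  rw [app_mul, app_rf_swap _ _ h1 hcv, app_rf_swap _ _ h2 hc0]

namespace Setup

variable {z : G} {Q : Subgroup G} {pr : G → V} {act : G → Iso} (h : Setup z Q pr act)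
include h

theorem z_sq : z * z = 1 := h.setting.z_mul_z

theorem z_ne : z ≠ 1 := h.setting.z_ne_one

theorem z_mem : z ∈ Q := h.setting.z_mem

theorem comm_Q {a : G} (ha : a ∈ Q) : a * z = z * a := h.setting.comm ha

theorem comm_inv {a : G} (ha : a * z = z * a) : a⁻¹ * z = z * a⁻¹ :=
  (Commute.inv_left (show Commute a z from ha)).eq

theorem comm_mul {a b : G} (ha : a * z = z * a) (hb : b * z = z * b) : a * b * z = z * (a * b) :=
  (Commute.mul_left (show Commute a z from ha) (show Commute b z from hb)).eq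

theorem comm_pow {a : G} (ha : a * z = z * a) (n : ℕ) : a ^ n * z = z * a ^ n :=
  (Commute.pow_left (show Commute a z from ha) n).eq

theorem comm_conj {c a : G} (hc : c * z = z * c) (ha : a * z = z * a) :
    c * a * c⁻¹ * z = z * (c * a * c⁻¹) := h.comm_mul (h.comm_mul hc ha) (h.comm_inv hc)

theorem conj_mem {c a : G} (hc : c * z = z * c) (ha : a ∈ Q) : c * a * c⁻¹ ∈ Q :=
  (h.setting.normalized c hc a).1 ha

theorem act_Q {a : G} (ha : a ∈ Q) : act a = 1 := (h.act_ker a (h.comm_Q ha)).2 ha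

theorem act_one : act 1 = 1 := h.act_Q Q.one_mem

theorem act_inv {a : G} (ha : a * z = z * a) : act a⁻¹ = (act a)⁻¹ := by
  refine eq_inv_of_mul_eq_one_left ?_
  rw [← h.act_mul _ _ (h.comm_inv ha) ha, inv_mul_cancel, h.act_one]

theorem act_pow {a : G} (ha : a * z = z * a) (n : ℕ) : act (a ^ n) = act a ^ n := by
  induction n with
  | zero => simp [h.act_one]
  | succ n ih => rw [pow_succ, h.act_mul _ _ (h.comm_pow ha n) ha, ih, pow_succ]

theorem act_conj {a b : G} (ha : a * z = z * a) (hb : b * z = z * b) :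
    act (a * b * a⁻¹) = act a * act b * (act a)⁻¹ := by
  rw [h.act_mul _ _ (h.comm_mul ha hb) (h.comm_inv ha), h.act_mul _ _ ha hb, h.act_inv ha]

theorem act_mem {c : G} (hc : c * z = z * c) : act c ∈ Omega (ZMod 2) Q8 :=
  (h.act_range _).2 ⟨c, hc, rfl⟩

theorem pr_one : pr 1 = 0 := (h.pr_zero 1 Q.one_mem).2 (Or.inl rfl)

theorem pr_z : pr z = 0 := (h.pr_zero z h.z_mem).2 (Or.inr rfl)

theorem pr_inv {a : G} (ha : a ∈ Q) : pr a⁻¹ = pr a := by
  refine eq_of_vadd ?_
  rw [← h.pr_mul _ (Q.inv_mem ha) _ ha, inv_mul_cancel, h.pr_one]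

theorem pr_congr {a b : G} (ha : a ∈ Q) (hb : b ∈ Q) (e : pr a = pr b) : a = b ∨ a = b * z := by
  rcases (h.pr_zero _ (Q.mul_mem (Q.inv_mem hb) ha)).1
    (by rw [h.pr_mul _ (Q.inv_mem hb) _ ha, h.pr_inv hb, e, vadd_self]) with e' | e'
  · exact Or.inl (inv_mul_eq_one.1 e').symm
  · exact Or.inr (inv_mul_eq_iff_eq_mul.1 e')

theorem sq_cases {a : G} (ha : a ∈ Q) : a * a = 1 ∨ a * a = z :=
  (h.pr_zero _ (Q.mul_mem ha ha)).1 (by rw [h.pr_mul _ ha _ ha, vadd_self])

theorem sq_eq_z {a : G} (ha : a ∈ Q) (hq : q (pr a) = 1) : a * a = z :=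
  (h.sq_cases ha).resolve_left fun e => by
    rw [(h.pr_sq a ha).2 e] at hq; exact zero_ne_one hq

theorem skew {a b : G} (ha : a ∈ Q) (hb : b ∈ Q) :
    (B (pr a) (pr b) = 0 ∧ a * b = b * a) ∨ (B (pr a) (pr b) = 1 ∧ a * b = b * a * z) := by
  have hpr : pr ((b * a)⁻¹ * (a * b)) = 0 := by
    rw [h.pr_mul _ (Q.inv_mem (Q.mul_mem hb ha)) _ (Q.mul_mem ha hb), h.pr_inv (Q.mul_mem hb ha),
      h.pr_mul _ hb _ ha, h.pr_mul _ ha _ hb, add_comm (pr b), vadd_self]
  have hq := q_add (pr a) (pr b)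
  rw [← h.pr_mul _ ha _ hb] at hq
  have key : ∀ x y : G, x ∈ Q → y ∈ Q → x * x = 1 → y * y = 1 → q (pr x) = 0 ∧ q (pr y) = 0 :=
    fun x y hx hy ex ey => ⟨(h.pr_sq x hx).2 ex, (h.pr_sq y hy).2 ey⟩
  rcases (h.pr_zero _ (Q.mul_mem (Q.inv_mem (Q.mul_mem hb ha)) (Q.mul_mem ha hb))).1 hpr with e | e
  · left
    have hc : a * b = b * a := (inv_mul_eq_one.1 e).symm
    refine ⟨?_, hc⟩
    have hsq : a * b * (a * b) = (a * a) * (b * b) := (show Commute b a from hc.symm).mul_mul_mul_comm a b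
    have hab := Q.mul_mem ha hb
    rcases h.sq_cases ha with e1 | e1 <;> rcases h.sq_cases hb with e2 | e2 <;>
      rw [e1, e2] at hsq <;> simp only [one_mul, mul_one, h.z_sq] at hsq
    · rw [(h.pr_sq a ha).2 e1, (h.pr_sq b hb).2 e2, (h.pr_sq _ hab).2 hsq] at hq
      linear_combination -hq
    · rw [(h.pr_sq a ha).2 e1, (zmod_cases (q (pr b))).resolve_left fun x =>
        h.z_ne (e2.symm.trans ((h.pr_sq b hb).1 x)),
        (zmod_cases (q (pr (a * b)))).resolve_left fun x =>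
        h.z_ne (hsq.symm.trans ((h.pr_sq _ hab).1 x))] at hq
      linear_combination -hq
    · rw [(h.pr_sq b hb).2 e2, (zmod_cases (q (pr a))).resolve_left fun x =>
        h.z_ne (e1.symm.trans ((h.pr_sq a ha).1 x)),
        (zmod_cases (q (pr (a * b)))).resolve_left fun x =>
        h.z_ne (hsq.symm.trans ((h.pr_sq _ hab).1 x))] at hq
      linear_combination -hq
    · rw [(zmod_cases (q (pr a))).resolve_left fun x =>
        h.z_ne (e1.symm.trans ((h.pr_sq a ha).1 x)), (zmod_cases (q (pr b))).resolve_left fun x =>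
        h.z_ne (e2.symm.trans ((h.pr_sq b hb).1 x)), (h.pr_sq _ hab).2 hsq] at hq
      linear_combination -hq - two_zero
  · right
    have hc : a * b = b * a * z := inv_mul_eq_iff_eq_mul.1 e
    refine ⟨?_, hc⟩
    have hsq : a * b * (a * b) = z * ((a * a) * (b * b)) := by
      have hba : b * a = a * b * z := by rw [hc, mul_assoc, h.z_sq, mul_one]
      calc a * b * (a * b) = a * (b * a) * b := by group
        _ = a * (a * b * z) * b := by rw [hba]
        _ = (a * a) * b * (z * b) := by group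
        _ = (a * a) * b * (b * z) := by rw [h.comm_Q hb]
        _ = (a * a) * (b * b) * z := by group
        _ = z * ((a * a) * (b * b)) := h.comm_Q (Q.mul_mem (Q.mul_mem ha ha) (Q.mul_mem hb hb))
    have hab := Q.mul_mem ha hb
    rcases h.sq_cases ha with e1 | e1 <;> rcases h.sq_cases hb with e2 | e2 <;>
      rw [e1, e2] at hsq <;> simp only [one_mul, mul_one, h.z_sq] at hsq
    · rw [(h.pr_sq a ha).2 e1, (h.pr_sq b hb).2 e2, (zmod_cases (q (pr (a * b)))).resolve_left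
        fun x => h.z_ne (hsq.symm.trans ((h.pr_sq _ hab).1 x))] at hq
      linear_combination -hq
    · rw [(h.pr_sq a ha).2 e1, (zmod_cases (q (pr b))).resolve_left fun x =>
        h.z_ne (e2.symm.trans ((h.pr_sq b hb).1 x)), (h.pr_sq _ hab).2 hsq] at hq
      linear_combination -hq - two_zero
    · rw [(h.pr_sq b hb).2 e2, (zmod_cases (q (pr a))).resolve_left fun x =>
        h.z_ne (e1.symm.trans ((h.pr_sq a ha).1 x)), (h.pr_sq _ hab).2 hsq] at hq
      linear_combination -hq - two_zero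
    · rw [(zmod_cases (q (pr a))).resolve_left fun x =>
        h.z_ne (e1.symm.trans ((h.pr_sq a ha).1 x)), (zmod_cases (q (pr b))).resolve_left fun x =>
        h.z_ne (e2.symm.trans ((h.pr_sq b hb).1 x)), (zmod_cases (q (pr (a * b)))).resolve_left
        fun x => h.z_ne (hsq.symm.trans ((h.pr_sq _ hab).1 x))] at hq
      linear_combination -hq - two_zero

theorem commute_of {a b : G} (ha : a ∈ Q) (hb : b ∈ Q) (hB : B (pr a) (pr b) = 0) :
    a * b = b * a := by
  rcases h.skew ha hb with ⟨-, e⟩ | ⟨e, -⟩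
  · exact e
  · rw [hB] at e; exact absurd e zero_ne_one

theorem B_of_commute {a b : G} (ha : a ∈ Q) (hb : b ∈ Q) (e : a * b = b * a) :
    B (pr a) (pr b) = 0 := by
  rcases h.skew ha hb with ⟨e', -⟩ | ⟨-, e'⟩
  · exact e'
  · rw [e] at e'; exact absurd (mul_eq_left.1 e'.symm) h.z_ne

theorem conj_eq_mul_z {a b : G} (ha : a ∈ Q) (hb : b ∈ Q) (hB : B (pr a) (pr b) = 1) :
    a * b * a⁻¹ = b * z := by
  rcases h.skew ha hb with ⟨e, -⟩ | ⟨-, e⟩
  · rw [hB] at e; exact absurd e one_ne_zero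
  · rw [e, mul_assoc (b * a), ← h.comm_inv (h.comm_Q ha), ← mul_assoc, mul_inv_cancel_right]

theorem conj_move {a : G} (ha : a ∈ Q) (h0 : pr a ≠ 0) : ∃ y ∈ Q, y * a * y⁻¹ = a * z := by
  obtain ⟨v, hv⟩ := exists_nonperp _ h0
  obtain ⟨y, hy, rfl⟩ := h.pr_surj v
  exact ⟨y, hy, h.conj_eq_mul_z hy ha (by rw [B_comm]; exact hv)⟩

theorem exists_act {f : Iso} (hf : f ∈ Omega (ZMod 2) Q8) : ∃ c, c * z = z * c ∧ act c = f :=
  (h.act_range f).1 hf

theorem transitive {a b : G} (ha : a ∈ Q) (ha2 : a * a = 1) (ha1 : a ≠ 1) (haz : a ≠ z)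
    (hb : b ∈ Q) (hb2 : b * b = 1) (hb1 : b ≠ 1) (hbz : b ≠ z) :
    ∃ c, c * z = z * c ∧ c * a * c⁻¹ = b := by
  have hne : ∀ {x}, x ∈ Q → x ≠ 1 → x ≠ z → pr x ≠ 0 := fun hx h1 h2 e =>
    ((h.pr_zero _ hx).1 e).elim h1 h2
  obtain ⟨f, hf, hfa⟩ := exists_move_one ((h.pr_sq a ha).2 ha2) (hne ha ha1 haz)
  obtain ⟨g, hg, hgb⟩ := exists_move_one ((h.pr_sq b hb).2 hb2) (hne hb hb1 hbz)
  obtain ⟨c, hc, hcf⟩ := h.exists_act (mul_mem (inv_mem hg) hf)
  have hpr : pr (c * a * c⁻¹) = pr b := by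
    rw [h.act_pr c hc a ha, hcf, app_mul, hfa, ← hgb, app_inv_app]
  rcases h.pr_congr (h.conj_mem hc ha) hb hpr with e | e
  · exact ⟨c, hc, e⟩
  · obtain ⟨y, hy, hy'⟩ := h.conj_move hb (hne hb hb1 hbz)
    refine ⟨y * c, h.comm_mul (h.comm_Q hy) hc, ?_⟩
    calc y * c * a * (y * c)⁻¹ = y * (c * a * c⁻¹) * y⁻¹ := by group
      _ = y * b * y⁻¹ * (y * z * y⁻¹) := by rw [e]; group
      _ = b := by rw [hy', h.comm_Q hy, mul_inv_cancel_right, mul_assoc, h.z_sq, mul_one]

end Setup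

/-- A second involution in `Q` conjugate to `z` and an element interchanging the two. -/
structure Frame (z s g : G) (Q : Subgroup G) (pr : G → V) (act : G → Iso) : Prop where
  setup : Setup z Q pr act
  s_mem : s ∈ Q
  s_pr : pr s = e0
  g_z : g * z * g⁻¹ = s
  g_s : g * s * g⁻¹ = z

theorem Setup.exists_frame {z : G} {Q : Subgroup G} {pr : G → V} {act : G → Iso}
    (h : Setup z Q pr act) (g : G) (hgQ : g * z * g⁻¹ ∈ Q) (hgz : g * z * g⁻¹ ≠ z) :
    ∃ s k, Frame z s k Q pr act := by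
  have hsq : ∀ x : G, x * z * x⁻¹ * (x * z * x⁻¹) = 1 := fun x => by
    rw [show x * z * x⁻¹ * (x * z * x⁻¹) = x * (z * z) * x⁻¹ by group, h.z_sq]; group
  have hne1 : ∀ x : G, x * z * x⁻¹ ≠ 1 := fun x e => h.z_ne (by
    rw [show z = x⁻¹ * (x * z * x⁻¹) * x by group, e]; group)
  obtain ⟨s, hs, hspr⟩ := h.pr_surj e0
  have hs1 : s ≠ 1 := fun e => e0_ne (by rw [← hspr, e, h.pr_one])
  have hs2 : s ≠ z := fun e => e0_ne (by rw [← hspr, e, h.pr_z])
  have hs3 : s * s = 1 := (h.pr_sq s hs).1 (by rw [hspr, q_e0])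
  obtain ⟨c, hc, hcs⟩ := h.transitive hgQ (hsq g) (hne1 g) hgz hs hs3 hs1 hs2
  set g' := c * g with hg'
  have hg's : g' * z * g'⁻¹ = s := by rw [← hcs, hg']; group
  have hz' : g'⁻¹ * z * g' ∈ Q := by
    have := LargeExtraspecial.mem_conj_of_conj_mem h.setting (by rw [h.card_Q]; norm_num) g'
      (by rw [hg's]; exact hs) (by rw [hg's]; exact hs2)
    exact (LargeExtraspecial.mem_conj_iff Q g' z).1 this
  have hz2 : g'⁻¹ * z * g' ≠ z := fun e => hs2 (by
    rw [← hg's]; calc g' * z * g'⁻¹ = g' * (g'⁻¹ * z * g') * g'⁻¹ := by rw [e]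
      _ = z := by group)
  obtain ⟨k, hk, hks⟩ := h.transitive hs hs3 hs1 hs2 hz'
    (by simpa using hsq g'⁻¹) (by simpa using hne1 g'⁻¹) hz2
  refine ⟨s, g' * k, h, hs, hspr, ?_, ?_⟩
  · calc g' * k * z * (g' * k)⁻¹ = g' * (k * z * k⁻¹) * g'⁻¹ := by group
      _ = s := by rw [hk, mul_inv_cancel_right, hg's]
  · calc g' * k * s * (g' * k)⁻¹ = g' * (k * s * k⁻¹) * g'⁻¹ := by group
      _ = z := by rw [hks]; group

end CfsgLib.ConwayType59
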